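import Mathlib
import Groth.Agent.Lib.Helper1.CurveQP2
import Groth.Agent.Lib.Helper1.CurveQP4
import Groth.Agent.Lib.Helper1.VA5
import Groth.Agent.Lib.Helper1.VB5
import Groth.Agent.Lib.Helper4.Nagata3
import Groth.Agent.Lib.Helper4.RationalExt1
import Groth.Agent.Lib.Helper4.BirationalNormal1
import Groth.Agent.Lib.Helper2.NormY.Main
import Groth.Agent.Lib.Helper2.Norm.SmoothField
import Groth.Agent.Lib.Helper2.Sch.DimFormula

/-!
# Normal completion of a normal curve (S4444)
-/

set_option autoImplicit false
set_option backward.isDefEq.respectTransparency.types false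
set_option synthInstance.maxHeartbeats 400000
set_option maxHeartbeats 4000000
set_option linter.style.haveILetI false
set_option linter.unusedSectionVars false
set_option linter.unusedVariables false

universe u
open CategoryTheory CategoryTheory.Limits AlgebraicGeometry TopologicalSpace

namespace Groth.Agent.Helper2.CurveNormC

/-- A locally Noetherian scheme whose closed points have one-dimensional local rings has dimension
at most one. -/
theorem dim_le_one_of_closedPoints (X : Scheme.{u}) [IsLocallyNoetherian X]
    (h : ∀ x : X, IsClosed ({x} : Set X) → ringKrullDim (X.presheaf.stalk x) = 1) :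
    topologicalKrullDim X ≤ 1 := by
  rw [Groth.Agent.Helper2.DimFormula.topologicalKrullDim_eq_iSup]
  refine iSup_le fun x => ?_
  have := Groth.Agent.Lib.Helper4.RationalExt1.ringKrullDim_stalk_le_of_closedPoints X 1
    (fun y hy => (h y hy).le) x
  exact_mod_cast this

/-- A point which is not the generic point of an irreducible component has a local ring of
dimension at least one. -/
theorem one_le_ringKrullDim_stalk (X : Scheme.{u}) (x : X)
    (hx : closure ({x} : Set X) ∉ irreducibleComponents X) :
    1 ≤ ringKrullDim (X.presheaf.stalk x) := by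
  rw [ringKrullDim_stalk_eq_coheight]
  have hirr : IsIrreducible (irreducibleComponent x) := isIrreducible_irreducibleComponent
  have hcl : IsClosed (irreducibleComponent x) := isClosed_irreducibleComponent
  obtain ⟨η, hη⟩ := QuasiSober.sober hirr hcl
  have hηx : η ⤳ x := by
    rw [specializes_iff_mem_closure, hη.def]
    exact mem_irreducibleComponent
  have hne : η ≠ x := by
    rintro rfl
    apply hx
    rw [hη.def]
    exact irreducibleComponent_mem_irreducibleComponents _
  have h1 : x < η := by
    refine lt_of_le_not_ge (Scheme.le_iff_specializes.mpr hηx) fun hle => hne ?_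
    exact (hηx.antisymm (Scheme.le_iff_specializes.mp hle)).eq
  have h2 : 0 < Order.coheight x := by
    rw [Order.coheight_pos]
    exact fun hmax => hmax.not_lt h1
  have h3 : (1 : ℕ∞) ≤ Order.coheight x := Order.one_le_iff_pos.mpr h2
  exact_mod_cast h3

/-- **S4444**: a normal curve over a field has a normal completion. -/
theorem main (k : Type u) [Field k] (X : Scheme.{u})
    [X.Over (Spec (CommRingCat.of k))] [LocallyOfFiniteType (X ↘ (Spec (CommRingCat.of k)))]
    [QuasiCompact (X ↘ (Spec (CommRingCat.of k)))] [IsSeparated (X ↘ (Spec (CommRingCat.of k)))]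
    (hcurve : ∀ x : X, IsClosed ({x} : Set X) → ringKrullDim (X.presheaf.stalk x) = 1)
    (hnorm : Pi1.IsNormalScheme X) :
    ∃ (Xc : Scheme.{u}) (sc : Xc ⟶ Spec (CommRingCat.of k)) (j : X ⟶ Xc), IsOpenImmersion j ∧
      Dense (Set.range j.base) ∧
      j ≫ sc = X ↘ (Spec (CommRingCat.of k)) ∧ IsProper sc ∧ Pi1.IsNormalScheme Xc ∧
      ∀ x : Xc, IsClosed ({x} : Set Xc) → ringKrullDim (Xc.presheaf.stalk x) = 1 := by
  haveI : IsNoetherian X :=
    Groth.Agent.Helper1.VB5.isNoetherian_of_proper k (X ↘ (Spec (CommRingCat.of k)))
  have hdim : topologicalKrullDim X ≤ 1 := dim_le_one_of_closedPoints X hcurve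
  obtain ⟨d, Y, c, j, hc, hj, hjc, hjd, -, -, -⟩ :=
    Groth.Agent.Helper1.CurveQP.exists_completion k X hdim
  haveI := hc
  haveI := hj
  letI : Y.Over (Spec (CommRingCat.of k)) := ⟨c ≫ CohB1.ProjSpace.toSpec d k⟩
  have hYs : (Y ↘ Spec (CommRingCat.of k)) = c ≫ CohB1.ProjSpace.toSpec d k := rfl
  haveI : j.IsOver (Spec (CommRingCat.of k)) := ⟨hjc⟩
  haveI hYp : IsProper (Y ↘ Spec (CommRingCat.of k)) := by
    rw [hYs]; infer_instance
  haveI : IsReduced X := Groth.Agent.Helper2.NormField.isReduced_of_isNormalScheme hnorm
  haveI : QuasiCompact j := by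
    have : QuasiCompact (j ≫ (Y ↘ Spec (CommRingCat.of k))) := by
      rw [hYs, hjc]; infer_instance
    exact MorphismProperty.of_postcomp (W := @QuasiCompact) (W' := @QuasiSeparated) j
      (Y ↘ Spec (CommRingCat.of k)) inferInstance this
  haveI : IsFinite j.fromNormalization := Groth.Agent.Lib.Helper4.Nagata3.S7616_main k Y X j
  have hfin : LocallyFinite (fun Z : ↥(irreducibleComponents ↥X) => (Z : Set ↥X)) := by
    haveI : Finite ↥(irreducibleComponents ↥X) :=
      (NoetherianSpace.finite_irreducibleComponents (α := ↥X)).to_subtype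
    exact locallyFinite_of_finite _
  have hN := (Groth.Agent.Helper2.NormY.S9673_main j hnorm hfin).1
  let sc : j.normalization ⟶ Spec (CommRingCat.of k) :=
    j.fromNormalization ≫ (Y ↘ Spec (CommRingCat.of k))
  haveI hscp : IsProper sc := by
    show IsProper (j.fromNormalization ≫ (Y ↘ Spec (CommRingCat.of k)))
    infer_instance
  have hdense : Dense (Set.range j.toNormalization.base) :=
    (inferInstance : IsDominant j.toNormalization).1
  haveI : IsNoetherian j.normalization :=
    Groth.Agent.Helper1.VB5.isNoetherian_of_proper k sc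
  have hdimc : topologicalKrullDim j.normalization ≤ 1 := by
    refine Groth.Agent.Helper1.CurveQP.dim_le_one_of_dense_open k sc j.toNormalization.opensRange
      ?_ ?_
    · exact hdense
    · exact (Groth.Agent.Helper1.CurveQP.dim_range_le j.toNormalization).trans hdim
  refine ⟨j.normalization, sc, j.toNormalization, inferInstance, hdense, ?_, hscp, hN, ?_⟩
  · show j.toNormalization ≫ j.fromNormalization ≫ (Y ↘ Spec (CommRingCat.of k)) = _
    rw [Scheme.Hom.toNormalization_fromNormalization_assoc, hYs, hjc]
  · intro x hx
    by_cases hxr : x ∈ Set.range j.toNormalization.base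
    · obtain ⟨x0, rfl⟩ := hxr
      have hx0 : IsClosed ({x0} : Set X) := by
        have : ({x0} : Set X) = j.toNormalization.base ⁻¹' {j.toNormalization.base x0} := by
          ext z
          simp only [Set.mem_singleton_iff, Set.mem_preimage]
          exact ⟨fun h => by rw [h], fun h => j.toNormalization.isOpenEmbedding.injective h⟩
        rw [this]
        exact hx.preimage j.toNormalization.continuous
      rw [← hcurve x0 hx0]
      exact ringKrullDim_eq_of_ringEquiv
        (asIso (j.toNormalization.stalkMap x0)).commRingCatIsoToRingEquiv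
    · refine le_antisymm ?_ ?_
      · exact (Groth.Agent.Lib.Helper4.BirationalNormal1.ringKrullDim_stalk_le_topologicalKrullDim
          _ x).trans hdimc
      · refine one_le_ringKrullDim_stalk _ x fun hgen => hxr ?_
        exact Groth.Agent.Helper1.CurveQP.mem_of_dense_of_generic
          (Set.range j.toNormalization.base) j.toNormalization.isOpenEmbedding.isOpen_range
          hdense x hgen

end Groth.Agent.Helper2.CurveNormC
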